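import Cfsg.Agent.H0.PG2
set_option maxRecDepth 100000
set_option Elab.async false
set_option linter.unusedSectionVars false
namespace H0.ML27
open H0 BN 
noncomputable def n0 : Net := (Net.cons (nat_lit 4) (nat_lit 0xc) (Net.cons (nat_lit 2) (nat_lit 0x3) (Net.cons (nat_lit 1) (nat_lit 0x55) (Net.cons (nat_lit 4) (nat_lit 0xc) Net.nil))))
noncomputable def n1 : Net := (Net.cons (nat_lit 4) (nat_lit 0x8) (Net.cons (nat_lit 2) (nat_lit 0x30) (Net.cons (nat_lit 1) (nat_lit 0x14) (Net.cons (nat_lit 4) (nat_lit 0x4) Net.nil))))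
noncomputable def n2 : Net := (Net.cons (nat_lit 4) (nat_lit 0x4) (Net.cons (nat_lit 2) (nat_lit 0x30) (Net.cons (nat_lit 1) (nat_lit 0x44) (Net.cons (nat_lit 4) (nat_lit 0x8) Net.nil))))
noncomputable def n3 : Net := (Net.cons (nat_lit 4) (nat_lit 0x4) (Net.cons (nat_lit 2) (nat_lit 0x30) (Net.cons (nat_lit 1) (nat_lit 0x44) (Net.cons (nat_lit 4) (nat_lit 0x8) Net.nil))))
noncomputable def n4 : Net := (Net.cons (nat_lit 4) (nat_lit 0x8) (Net.cons (nat_lit 2) (nat_lit 0x30) (Net.cons (nat_lit 1) (nat_lit 0x14) (Net.cons (nat_lit 4) (nat_lit 0x4) Net.nil))))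
noncomputable def n5 : Net := (Net.cons (nat_lit 4) (nat_lit 0x2) (Net.cons (nat_lit 2) (nat_lit 0x2) (Net.cons (nat_lit 1) (nat_lit 0x40) (Net.cons (nat_lit 4) (nat_lit 0x4) Net.nil))))
noncomputable def n6 : Net := (Net.cons (nat_lit 4) (nat_lit 0xa) (Net.cons (nat_lit 2) (nat_lit 0x20) (Net.cons (nat_lit 1) (nat_lit 0x4) (Net.cons (nat_lit 4) (nat_lit 0xc) Net.nil))))
noncomputable def n7 : Net := (Net.cons (nat_lit 4) (nat_lit 0x8) (Net.cons (nat_lit 2) (nat_lit 0x30) (Net.cons (nat_lit 1) (nat_lit 0x14) (Net.cons (nat_lit 4) (nat_lit 0x4) Net.nil))))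
noncomputable def n8 : Net := (Net.cons (nat_lit 4) (nat_lit 0x4) (Net.cons (nat_lit 2) (nat_lit 0x30) (Net.cons (nat_lit 1) (nat_lit 0x44) (Net.cons (nat_lit 4) (nat_lit 0x8) Net.nil))))
noncomputable def n9 : Net := (Net.cons (nat_lit 4) (nat_lit 0xc) (Net.cons (nat_lit 2) (nat_lit 0x3) (Net.cons (nat_lit 1) (nat_lit 0x55) (Net.cons (nat_lit 4) (nat_lit 0xc) Net.nil))))
def B : List (List ℕ) := [[0, 0], [1, 2], [2, 1], [3, 4], [4, 3], [5, 6], [6, 5], [7, 8], [8, 7], [7, 7, 7], [3, 3, 3], [5, 5, 5], [4, 8], [3, 5, 3, 5, 3, 5, 3, 5, 3, 5, 3, 5, 3, 5], [3, 5, 4, 6, 3, 5, 4, 6, 3, 5, 4, 6, 3, 5, 4, 6, 3, 5, 4, 6, 3, 5, 4, 6, 3, 5, 4, 6], [3, 6, 3, 6, 3, 6], [5, 3, 6, 4, 5, 8], [1, 1, 1], [2, 4], [0, 1, 0, 2, 0, 2, 0, 6], [0, 1, 0, 1, 0, 1, 0, 1, 0, 1, 0, 1, 0, 1], [0, 1, 0, 2, 0, 1, 0, 2, 0, 1, 0, 2, 0, 1, 0, 2], [0, 2, 0, 2, 0, 2, 0, 2, 0, 2, 0, 2, 0, 2], [0, 1, 5, 0, 4, 5], [0, 2, 6, 0, 2, 0, 4, 6]]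
def inv (x : ℕ) : ℕ := [0, 2, 1, 4, 3, 6, 5, 8, 7].getD x 0
noncomputable def nl : List Net := [n0, n1, n2, n3, n4, n5, n6, n7, n8, n9]
theorem nl_ok : allL (Net.ok (nat_lit 8)) nl = true := by decide +kernel
noncomputable def R : Rep := mkRep (nat_lit 3) (nat_lit 8) nl (by decide +kernel) nl_ok
def defs : List (List ℕ) := [[0]]
theorem R_ge : ∀ x, 9 + defs.length ≤ x → R.p x = 1 := fun _ hx => mkRep_ge hx
def ngSt : List (List (ℕ × List ℕ) × List ℕ × ℕ × ℕ) := [([(0, [])], [0], 1, 2), ([(1, [])], [5], 4, 3), ([(2, [])], [6], 1, 3), ([(1, [])], [1], 7, 3), ([(4, [])], [2], 1, 3), ([(4, [])], [3], 1, 3), ([(5, [])], [4], 1, 3), ([(5, [])], [7], 1, 3), ([(4, [])], [8], 1, 3)]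
def ngR : List (List ℕ) := ngRels inv ngSt [[9]]
def xR : List (List ℕ) := [wpow [9] 2]
theorem c0 : relsW R 0 R.lg ((B.drop 0).take 25) = true := by decide +kernel
theorem c1 : defsChk R defs 9 = true := by decide +kernel
theorem c2 : Model.fixW R [] [[0], [1]] = true := by decide +kernel
theorem c3 : Model.growW R [[0], [1]] [0, 1, 0, 1, 0, 1, 0] (Nat.pow 2 0) (ival 0 8) = true := by decide +kernel
theorem c4 : Model.fixW R [0] [[3], [5]] = true := by decide +kernel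
theorem c5 : Model.growW R [[3], [5]] [1, 0, 1, 0, 0] (Nat.pow 2 1) (ival 1 7) = true := by decide +kernel
theorem c6 : Model.fixW R [1, 0] [[7]] = true := by decide +kernel
theorem c7 : Model.growW R [[7]] [0, 0] (Nat.pow 2 2) (ival 2 3) = true := by decide +kernel
theorem c8 : Model.growW R [[0], [1]] [0, 1, 0, 1, 0, 1, 0] (Nat.pow 2 0) (ival 0 8) = true := by decide +kernel
theorem c9 : Model.invW R [[0], [1], [2], [3], [4], [5], [6], [7], [8]] 0 8 = true := by decide +kernel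
theorem c10 : Model.fixW R [0] [[3], [5]] = true := by decide +kernel
theorem c11 : Model.growW R [[3], [5]] [0, 1, 0, 1] (Nat.pow 2 7) (ival 1 7) = true := by decide +kernel
theorem c12 : mapsW R [0] (Nat.pow 2 0) (Nat.pow 2 7) = true := by decide +kernel
theorem c13 : Model.growW R [[0], [3], [5]] [0, 1, 2, 1, 0] (Nat.pow 2 0) (ival 0 8) = true := by decide +kernel
theorem c14 : relsW R 0 R.lg ((ngR.drop 0).take 18) = true := by decide +kernel
theorem c15 : relsW R 0 R.lg ((xR.drop 0).take 1) = true := by decide +kernel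
end H0.ML27
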